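import Mathlib
import Cfsg.Agent.Eq.Def_DegreeGraph
import Cfsg.Prelude.Def_DegreeGraph
import Cfsg.Agent.Chars.Basic
import Cfsg.Agent.CharExtend.Basic
import Cfsg.Agent.Chars.Apps.Burnside
import Cfsg.Agent.SylowToolkit.Transfer

/-!
Groups of order sixty with the character degree graph of the alternating group of degree five.
-/

set_option autoImplicit false

namespace CfsgLib.DegreeSixty

open Cfsg CfsgLib.Chars

universe u

variable {G : Type u} [Group G] [Finite G]

/-- A linear character fixing an irreducible character has order dividing its degree. -/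
theorem pow_charDegree_eq_one (χ : IrrCharacter G) (l : G →* ℂˣ)
    (h : ∀ g, (l g : ℂ) * (χ : G → ℂ) g = (χ : G → ℂ) g) :
    l ^ charDegree (χ : G → ℂ) = 1 := by
  obtain ⟨n, ρ, hρ, hχ⟩ := χ.2
  have hdeg : charDegree (χ : G → ℂ) = n := by
    apply charDegree_eq_of_map_one
    rw [← hχ, Representation.char_one, Module.finrank_fin_fun]
  obtain ⟨hm, T, hT⟩ := CfsgLib.CharExtend.exists_conj_of_char_eq ρ hρ (twistRep ρ l)
    (funext fun g => by rw [twistRep_character, hχ]; exact h g)
  ext g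
  have hdet := congrArg LinearMap.det (hT g)
  simp only [map_mul] at hdet
  have hTne : LinearMap.det (T : (Fin n → ℂ) →ₗ[ℂ] (Fin n → ℂ)) ≠ 0 :=
    ((T.map (LinearMap.det : ((Fin n → ℂ) →ₗ[ℂ] (Fin n → ℂ)) →* ℂ)).isUnit).ne_zero
  have hρne : LinearMap.det (ρ g) ≠ 0 := by
    have : LinearMap.det (ρ g) * LinearMap.det (ρ g⁻¹) = 1 := by
      rw [← map_mul, ← map_mul, mul_inv_cancel, map_one, map_one]
    exact left_ne_zero_of_mul_eq_one this
  have htw : LinearMap.det ((twistRep ρ l) g) = (l g : ℂ) ^ n * LinearMap.det (ρ g) := by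
    show LinearMap.det ((l g : ℂ) • ρ g) = _
    rw [LinearMap.det_smul, Module.finrank_fin_fun]
  rw [htw] at hdet
  rw [hdeg]
  simp only [MonoidHom.pow_apply, Units.val_pow_eq_pow_val, MonoidHom.one_apply, Units.val_one]
  have : ((l g : ℂ) ^ n - 1) * (LinearMap.det (ρ g) * LinearMap.det (T : (Fin n → ℂ) →ₗ[ℂ] _)) = 0 :=
    by linear_combination (-1 : ℂ) * hdet
  exact sub_eq_zero.mp ((mul_eq_zero.mp this).resolve_right (mul_ne_zero hρne hTne))

/-- The degree of a character is a bounded divisor of the order. -/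
theorem charDegree_mem_of_card_sixty (hG : Nat.card G = 60) (χ : IrrCharacter G) :
    charDegree (χ : G → ℂ) ∈ ({1, 2, 3, 4, 5, 6} : Finset ℕ) := by
  have h1 := charDegree_dvd_card χ
  have h2 := charDegree_sq_le χ
  rw [hG] at h1 h2
  have h3 : charDegree (χ : G → ℂ) ≤ 7 := by nlinarith
  generalize charDegree (χ : G → ℂ) = d at h1 h2 h3 ⊢
  interval_cases d <;> simp_all

/-- If the commutator subgroup of a group of order 60 is proper, the degrees cannot include 5
together with multiples of 2 and 3 without 6. -/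
theorem commutator_eq_top_of_degrees (hG : Nat.card G = 60)
    (h6 : ∀ χ : IrrCharacter G, charDegree (χ : G → ℂ) ≠ 6)
    (hex : ∀ p : ℕ, p = 2 ∨ p = 3 ∨ p = 5 → ∃ χ : IrrCharacter G, p ∣ charDegree (χ : G → ℂ)) :
    commutator G = ⊤ := by
  classical
  by_contra hne
  haveI := Fintype.ofFinite (G →* ℂˣ)
  set n1 := (commutator G).index with hn1
  have hn1gt : 1 < n1 := Nat.one_lt_iff_ne_zero_and_ne_one.mpr
    ⟨Subgroup.index_ne_zero_of_finite, fun h => hne (Subgroup.index_eq_one.mp h)⟩
  let D : ℕ → Finset (IrrCharacter G) := fun d =>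
    Finset.univ.filter fun χ => charDegree (χ : G → ℂ) = d
  have hD1 : (D 1).card = n1 := by
    rw [hn1, ← card_charDegree_eq_one, Nat.card_eq_fintype_card]
    exact (Fintype.card_subtype _).symm
  have hsum : ∑ d ∈ ({1, 2, 3, 4, 5} : Finset ℕ), d ^ 2 * (D d).card = 60 := by
    rw [← hG, ← sum_charDegree_sq (G := G),
      ← Finset.sum_fiberwise_of_maps_to (g := fun χ : IrrCharacter G => charDegree (χ : G → ℂ))
        (t := ({1, 2, 3, 4, 5} : Finset ℕ)) (fun χ _ => ?_)]
    · refine Finset.sum_congr rfl fun d _ => ?_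
      rw [Finset.sum_congr rfl (fun χ hχ => by rw [(Finset.mem_filter.mp hχ).2]),
        Finset.sum_const, smul_eq_mul, mul_comm]
    · have h1 := charDegree_mem_of_card_sixty hG χ
      have h2 := h6 χ
      simp only [Finset.mem_insert, Finset.mem_singleton] at h1 ⊢
      omega
  simp only [Finset.sum_insert, Finset.mem_insert, Finset.mem_singleton, Finset.sum_singleton,
    OfNat.one_ne_ofNat, or_self, not_false_iff, one_pow, one_mul] at hsum
  norm_num at hsum
  have hD : ∀ p, p = 2 ∨ p = 3 ∨ p = 5 → ∃ d, (d = 2 ∨ d = 3 ∨ d = 4 ∨ d = 5) ∧ p ∣ d ∧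
      ∃ χ, χ ∈ D d := by
    intro p hp
    obtain ⟨χ, hχ⟩ := hex p hp
    have h1 := charDegree_mem_of_card_sixty hG χ
    have h2 := h6 χ
    refine ⟨_, ?_, hχ, χ, Finset.mem_filter.mpr ⟨Finset.mem_univ _, rfl⟩⟩
    simp only [Finset.mem_insert, Finset.mem_singleton] at h1
    have hp' : 2 ≤ p := by omega
    have : charDegree (χ : G → ℂ) ≠ 1 := fun e => by
      rw [e] at hχ; have := Nat.le_of_dvd one_pos hχ; omega
    omega
  have hpos5 : 0 < (D 5).card := by
    obtain ⟨d, hd, hpd, χ, hχ⟩ := hD 5 (by simp)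
    have : d = 5 := by rcases hd with rfl | rfl | rfl | rfl <;> omega
    exact Finset.card_pos.mpr ⟨χ, this ▸ hχ⟩
  have hpos3 : 0 < (D 3).card := by
    obtain ⟨d, hd, hpd, χ, hχ⟩ := hD 3 (by simp)
    have : d = 3 := by rcases hd with rfl | rfl | rfl | rfl <;> omega
    exact Finset.card_pos.mpr ⟨χ, this ▸ hχ⟩
  have hpos24 : 0 < (D 2).card ∨ 0 < (D 4).card := by
    obtain ⟨d, hd, hpd, χ, hχ⟩ := hD 2 (by simp)
    rcases hd with rfl | rfl | rfl | rfl
    · exact Or.inl (Finset.card_pos.mpr ⟨χ, hχ⟩)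
    · omega
    · exact Or.inr (Finset.card_pos.mpr ⟨χ, hχ⟩)
    · omega
  have hcardL : Nat.card (G →* ℂˣ) = n1 := card_monoidHom_units
  have horb : ∀ d (L : Subgroup (G →* ℂˣ)), (Nat.card L).Coprime d → 0 < (D d).card →
      Nat.card L ≤ (D d).card := by
    intro d L hcop hpos
    obtain ⟨χ, hχ⟩ := Finset.card_pos.mp hpos
    obtain ⟨-, hdeg⟩ := Finset.mem_filter.mp hχ
    let f : L → IrrCharacter G := fun l =>
      ⟨fun g => ((l : G →* ℂˣ) g : ℂ) * (χ : G → ℂ) g, isIrrCharacter_linear_mul χ.2 _⟩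
    have hf : Function.Injective f := by
      intro l m hlm
      have hq : ∀ g, (((l⁻¹ * m : L) : G →* ℂˣ) g : ℂ) * (χ : G → ℂ) g = (χ : G → ℂ) g := by
        intro g
        have h1 := congrFun (congrArg Subtype.val hlm) g
        simp only [f] at h1
        simp only [Subgroup.coe_mul, Subgroup.coe_inv, MonoidHom.mul_apply, MonoidHom.inv_apply,
          Units.val_mul]
        rw [mul_assoc, ← h1, Units.inv_mul_cancel_left]
      have h2 := pow_charDegree_eq_one χ _ hq
      rw [hdeg] at h2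
      have h3 : orderOf (l⁻¹ * m) ∣ d :=
        orderOf_dvd_of_pow_eq_one (Subtype.ext (by simpa using h2))
      have h4 := Nat.dvd_gcd (orderOf_dvd_natCard (l⁻¹ * m)) h3
      rw [hcop.gcd_eq_one, Nat.dvd_one, orderOf_eq_one_iff] at h4
      exact inv_mul_eq_one.mp h4
    rw [Nat.card_eq_fintype_card, ← Finset.card_univ, ← Finset.card_image_of_injective _ hf]
    refine Finset.card_le_card fun ψ hψ => ?_
    obtain ⟨l, -, rfl⟩ := Finset.mem_image.mp hψ
    refine Finset.mem_filter.mpr ⟨Finset.mem_univ _, ?_⟩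
    apply charDegree_eq_of_map_one
    simp [f, ← hdeg, coe_charDegree]
  by_cases h5 : 5 ∣ n1
  · haveI : Fact (Nat.Prime 5) := ⟨by norm_num⟩
    obtain ⟨l, hl⟩ := exists_prime_orderOf_dvd_card' (G := G →* ℂˣ) 5 (hcardL ▸ h5)
    have h3 := horb 3 (Subgroup.zpowers l) (by rw [Nat.card_zpowers, hl]; norm_num) hpos3
    rw [Nat.card_zpowers, hl] at h3
    have := Nat.le_of_dvd (by omega) h5
    omega
  · have h5' := horb 5 ⊤ (by
      rw [Subgroup.card_top, hcardL]
      exact ((Nat.Prime.coprime_iff_not_dvd (by norm_num)).mpr h5).symm) hpos5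
    rw [Subgroup.card_top, hcardL] at h5'
    omega

/-- A group of order 60 with trivial abelianisation is simple. -/
theorem isSimple_of_card_sixty (hG : Nat.card G = 60) (hperf : commutator G = ⊤) :
    IsSimpleGroup G := by
  haveI : Nontrivial G := Finite.one_lt_card_iff_nontrivial.mp (by omega)
  refine ⟨fun N hN => ?_⟩
  by_contra hne
  push_neg at hne
  obtain ⟨hN1, hN2⟩ := hne
  obtain ⟨M, hNM, hM⟩ := Finite.exists_le_maximal
    (p := fun M : Subgroup G => M.Normal ∧ M ≠ ⊤) ⟨hN, hN2⟩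
  obtain ⟨hMn, hMtop⟩ := hM.1
  haveI := hMn
  haveI : Nontrivial (G ⧸ M) := by
    rw [← Finite.one_lt_card_iff_nontrivial, ← Subgroup.index_eq_card]
    exact Nat.one_lt_iff_ne_zero_and_ne_one.mpr
      ⟨Subgroup.index_ne_zero_of_finite, fun h => hMtop (Subgroup.index_eq_one.mp h)⟩
  haveI hs : IsSimpleGroup (G ⧸ M) := ⟨fun K hK => by
    by_cases hK2 : K = ⊤
    · exact Or.inr hK2
    refine Or.inl ?_
    have hle : M ≤ K.comap (QuotientGroup.mk' M) := fun m hm => by
      rw [Subgroup.mem_comap, QuotientGroup.mk'_apply, (QuotientGroup.eq_one_iff m).mpr hm]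
      exact one_mem _
    have := hM.2 ⟨hK.comap _, fun h => hK2 (by
      rw [← Subgroup.map_comap_eq_self_of_surjective (QuotientGroup.mk'_surjective M) K, h,
        Subgroup.map_top_of_surjective _ (QuotientGroup.mk'_surjective M)])⟩ hle
    rw [← Subgroup.map_comap_eq_self_of_surjective (QuotientGroup.mk'_surjective M) K,
      Subgroup.map_eq_bot_iff, QuotientGroup.ker_mk']
    exact this⟩
  have hperf' : commutator (G ⧸ M) = ⊤ := by
    rw [commutator_def, ← Subgroup.map_top_of_surjective _ (QuotientGroup.mk'_surjective M),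
      ← Subgroup.map_commutator, ← commutator_def, hperf]
  have hnc : ¬ IsMulCommutative (G ⧸ M) := by
    intro hc
    have : commutator (G ⧸ M) = ⊥ := by
      rw [commutator_def, Subgroup.commutator_eq_bot_iff_le_centralizer]
      intro a _
      rw [Subgroup.mem_centralizer_iff]
      exact fun b _ => hc.is_comm.comm b a
    rw [this] at hperf'
    exact bot_ne_top hperf'
  have hcard : Nat.card (G ⧸ M) * Nat.card M = 60 := by
    rw [← hG, Subgroup.card_eq_card_quotient_mul_card_subgroup M]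
  have hMne : Nat.card M ≠ 1 := fun h =>
    hN1 (le_bot_iff.mp ((hNM.trans_eq (Subgroup.card_eq_one.mp h))))
  have hns : ¬ Group.IsSolvable (G ⧸ M) := fun h =>
    hnc ⟨⟨IsSimpleGroup.comm_iff_isSolvable.mpr h⟩⟩
  have hdvd : Nat.card (G ⧸ M) ∣ 60 := ⟨_, hcard.symm⟩
  have hlt : Nat.card (G ⧸ M) < 60 := by
    have := Nat.card_pos (α := M)
    have := Nat.card_pos (α := G ⧸ M)
    have : 2 ≤ Nat.card M := by omega
    nlinarith
  have key : ∀ p q a b : ℕ, p.Prime → q.Prime → Nat.card (G ⧸ M) ≠ p ^ a * q ^ b := by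
    intro p q a b hp hq h
    exact hns (CfsgLib.Chars.Apps.isSolvable_of_card_eq_pow_mul_pow (G ⧸ M) hp hq h)
  have h30 : Nat.card (G ⧸ M) ≠ 30 := fun h =>
    CfsgLib.SylowToolkit.not_isSimpleGroup_of_two_mul_odd (G := G ⧸ M) (m := 15)
      (by rw [h]) (by decide) (by norm_num) hs
  have hmem : Nat.card (G ⧸ M) ∈ Nat.divisors 60 := Nat.mem_divisors.mpr ⟨hdvd, by norm_num⟩
  rw [show Nat.divisors 60 = {1, 2, 3, 4, 5, 6, 10, 12, 15, 20, 30, 60} by decide] at hmem
  simp only [Finset.mem_insert, Finset.mem_singleton] at hmem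
  rcases hmem with h | h | h | h | h | h | h | h | h | h | h | h
  · exact key 2 3 0 0 Nat.prime_two Nat.prime_three (by norm_num [h])
  · exact key 2 3 1 0 Nat.prime_two Nat.prime_three (by norm_num [h])
  · exact key 2 3 0 1 Nat.prime_two Nat.prime_three (by norm_num [h])
  · exact key 2 3 2 0 Nat.prime_two Nat.prime_three (by norm_num [h])
  · exact key 2 5 0 1 Nat.prime_two (by norm_num) (by norm_num [h])
  · exact key 2 3 1 1 Nat.prime_two Nat.prime_three (by norm_num [h])
  · exact key 2 5 1 1 Nat.prime_two (by norm_num) (by norm_num [h])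
  · exact key 2 3 2 1 Nat.prime_two Nat.prime_three (by norm_num [h])
  · exact key 3 5 1 1 Nat.prime_three (by norm_num) (by norm_num [h])
  · exact key 2 5 2 1 Nat.prime_two (by norm_num) (by norm_num [h])
  · exact h30 h
  · omega

theorem card_conjClasses_alt_five : Nat.card (ConjClasses (alternatingGroup (Fin 5))) = 5 := by
  rw [Nat.card_eq_fintype_card]
  decide +kernel

/-- The degree data of the alternating group of degree five that is needed. -/
theorem degrees_alt_five :
    (∀ χ : IrrCharacter (alternatingGroup (Fin 5)), charDegree (χ : alternatingGroup (Fin 5) → ℂ) ≠ 6) ∧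
    ∀ p : ℕ, p = 2 ∨ p = 3 ∨ p = 5 →
      ∃ χ : IrrCharacter (alternatingGroup (Fin 5)), p ∣ charDegree (χ : alternatingGroup (Fin 5) → ℂ) := by
  classical
  have hG : Nat.card (alternatingGroup (Fin 5)) = 60 := by
    rw [nat_card_alternatingGroup, Nat.card_fin]; decide
  let D : ℕ → Finset (IrrCharacter (alternatingGroup (Fin 5))) := fun d =>
    Finset.univ.filter fun χ => charDegree (χ : alternatingGroup (Fin 5) → ℂ) = d
  have hperf : commutator (alternatingGroup (Fin 5)) = ⊤ := by
    haveI : IsSimpleGroup (alternatingGroup (Fin 5)) :=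
      alternatingGroup.isSimpleGroup (by rw [Nat.card_fin])
    rcases IsSimpleGroup.eq_bot_or_eq_top_of_normal (commutator (alternatingGroup (Fin 5)))
      inferInstance with h | h
    · exfalso
      rw [commutator_def, Subgroup.commutator_eq_bot_iff_le_centralizer] at h
      have hc : ∀ a b : alternatingGroup (Fin 5), a * b = b * a := fun a b =>
        Subgroup.mem_centralizer_iff.mp (h (Subgroup.mem_top b)) a (Subgroup.mem_top a)
      exact absurd hc (by decide +kernel)
    · exact h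
  have hD1 : (D 1).card = 1 := by
    have h1 := card_charDegree_eq_one (G := alternatingGroup (Fin 5))
    rw [hperf, Subgroup.index_top, Nat.card_eq_fintype_card] at h1
    exact ((Fintype.card_subtype
      (fun χ : IrrCharacter (alternatingGroup (Fin 5)) =>
        charDegree (χ : alternatingGroup (Fin 5) → ℂ) = 1)).symm).trans h1
  have hmaps : ∀ χ : IrrCharacter (alternatingGroup (Fin 5)),
      χ ∈ (Finset.univ : Finset _) → charDegree (χ : alternatingGroup (Fin 5) → ℂ) ∈ ({1, 2, 3, 4, 5, 6} : Finset ℕ) :=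
    fun χ _ => charDegree_mem_of_card_sixty hG χ
  have hsum : ∑ d ∈ ({1, 2, 3, 4, 5, 6} : Finset ℕ), d ^ 2 * (D d).card = 60 := by
    rw [← hG, ← sum_charDegree_sq (G := alternatingGroup (Fin 5)),
      ← Finset.sum_fiberwise_of_maps_to hmaps]
    refine Finset.sum_congr rfl fun d _ => ?_
    rw [Finset.sum_congr rfl (fun χ hχ => by rw [(Finset.mem_filter.mp hχ).2]),
      Finset.sum_const, smul_eq_mul, mul_comm]
  have hcount : ∑ d ∈ ({1, 2, 3, 4, 5, 6} : Finset ℕ), (D d).card = 5 := by
    rw [← Finset.card_eq_sum_card_fiberwise hmaps, Finset.card_univ, ← Nat.card_eq_fintype_card,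
      card_irrCharacter, card_conjClasses_alt_five]
  simp only [Finset.sum_insert, Finset.mem_insert, Finset.mem_singleton, Finset.sum_singleton,
    OfNat.one_ne_ofNat, or_self, not_false_iff] at hsum hcount
  norm_num [hD1] at hsum hcount
  have hsol : (D 6).card = 0 ∧ 0 < (D 3).card ∧ 0 < (D 5).card ∧ 0 < (D 4).card := by
    have b6 : (D 6).card ≤ 1 := by omega
    have b5 : (D 5).card ≤ 2 := by omega
    have b4 : (D 4).card ≤ 3 := by omega
    have b3 : (D 3).card ≤ 4 := by omega
    interval_cases (D 6).card <;> interval_cases (D 5).card <;> interval_cases (D 4).card <;> omega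
  obtain ⟨h6, h3, h5, h4⟩ := hsol
  refine ⟨fun χ e => ?_, fun p hp => ?_⟩
  · exact Finset.eq_empty_iff_forall_notMem.mp (Finset.card_eq_zero.mp h6) χ
      (Finset.mem_filter.mpr ⟨Finset.mem_univ _, e⟩)
  · rcases hp with rfl | rfl | rfl
    · obtain ⟨χ, hχ⟩ := Finset.card_pos.mp h4
      exact ⟨χ, (Finset.mem_filter.mp hχ).2.symm ▸ (by norm_num : 2 ∣ 4)⟩
    · obtain ⟨χ, hχ⟩ := Finset.card_pos.mp h3
      exact ⟨χ, dvd_of_eq (Finset.mem_filter.mp hχ).2.symm⟩
    · obtain ⟨χ, hχ⟩ := Finset.card_pos.mp h5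
      exact ⟨χ, dvd_of_eq (Finset.mem_filter.mp hχ).2.symm⟩

theorem isSimple_of_degree_graph (hG : Nat.card G = 60)
    (hp : degreePrimes G = degreePrimes (alternatingGroup (Fin 5)))
    (hg : degreeGraph G = degreeGraph (alternatingGroup (Fin 5))) : IsSimpleGroup G := by
  obtain ⟨h6, hex⟩ := degrees_alt_five
  refine isSimple_of_card_sixty hG (commutator_eq_top_of_degrees hG (fun χ e => ?_) fun p hpp => ?_)
  · have hadj : (degreeGraph G).Adj 2 3 :=
      ⟨by norm_num, Nat.prime_two, Nat.prime_three, 6, ⟨χ, e⟩, by norm_num⟩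
    rw [hg] at hadj
    obtain ⟨-, -, -, d, ⟨ψ, hψ⟩, hd⟩ := hadj
    have hmem := charDegree_mem_of_card_sixty (G := alternatingGroup (Fin 5))
      (by rw [nat_card_alternatingGroup, Nat.card_fin]; decide) ψ
    have hψ6 := h6 ψ
    rw [hψ] at hmem hψ6
    simp only [Finset.mem_insert, Finset.mem_singleton] at hmem
    rcases hmem with rfl | rfl | rfl | rfl | rfl | rfl <;> omega
  · obtain ⟨χ, hχ⟩ := hex p hpp
    have hpr : p.Prime := by rcases hpp with rfl | rfl | rfl <;> norm_num
    have hmem : p ∈ degreePrimes (alternatingGroup (Fin 5)) := ⟨hpr, _, ⟨χ, rfl⟩, hχ⟩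
    rw [← hp] at hmem
    obtain ⟨-, d, ⟨ψ, hψ⟩, hd⟩ := hmem
    exact ⟨ψ, hψ ▸ hd⟩

end CfsgLib.DegreeSixty
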